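import Mathlib

/-!
# Normal basis elements for free actions on semilocal rings
-/

set_option autoImplicit false

namespace H82

open scoped Pointwise

theorem exists_normal_field {K G : Type*} [Field K] [Group G] [Fintype G] [MulSemiringAction G K]
    [FaithfulSMul G K] : ∃ b : K, ∀ c : G → K, (∀ t : G, ∑ s, c s * s • t • b = 0) → c = 0 := by
  let L := FixedPoints.subfield G K
  refine ⟨IsGalois.normalBasis L K 1, fun c hc => ?_⟩
  have h1 : ∀ x : K, ∑ s, c s * s • x = 0 := fun x => by
    rw [← (IsGalois.normalBasis L K).sum_repr x]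
    simp only [Finset.smul_sum, Finset.mul_sum]
    rw [Finset.sum_comm]
    refine Finset.sum_eq_zero fun e _ => ?_
    obtain ⟨t, rfl⟩ := FixedPoints.toAlgAut_surjective G K e
    generalize (IsGalois.normalBasis L K).repr x _ = a
    rw [← mul_zero (a : K), ← hc t, Finset.mul_sum, IsGalois.normalBasis_apply]
    refine Finset.sum_congr rfl fun s _ => ?_
    change c s * s • ((a : K) * t • _) = _
    rw [smul_mul', a.2 s, mul_left_comm]
  have h2 := (linearIndependent_monoidHom K K).comp
    (fun s : G => (MulSemiringAction.toRingHom G K s).toMonoidHom)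
    fun s t h => FaithfulSMul.eq_of_smul_eq_smul (α := K) fun x => DFunLike.congr_fun h x
  exact funext (Fintype.linearIndependent_iff.1 h2 c (funext fun x => by simpa using h1 x))

variable {R H : Type*} [CommRing R] [Group H] [Fintype H] [MulSemiringAction H R]

theorem exists_normal_stab (m : Ideal R) [m.IsMaximal] (h : ∀ s : H, s ≠ 1 → ∃ r, s • r - r ∉ m) :
    ∃ b : R, ∀ a : R, a - b ∈ m → (∀ g : H, g • m ≠ m → a ∈ g • m) →
      ∀ c : H → R, (∀ t : H, ∑ g, c g * (g * t) • a ∈ m) → ∀ g, c g ∈ m := by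
  classical
  let _ := Ideal.Quotient.field m
  let _ : MulSemiringAction (MulAction.stabilizer H m) (R ⧸ m) := MulSemiringAction.compHom _
    (Ideal.Quotient.stabilizerHom m (m.under ℤ) H)
  have h1 : ∀ (s : MulAction.stabilizer H m) (r : R), s • Ideal.Quotient.mk m r =
    Ideal.Quotient.mk m (s.1 • r) := fun _ _ => rfl
  have : FaithfulSMul (MulAction.stabilizer H m) (R ⧸ m) := ⟨fun {s t} e => by
    by_contra h2
    obtain ⟨r, hr⟩ := h (t⁻¹ * s).1 fun h3 => h2 (inv_mul_eq_one.1 (Subtype.ext h3)).symm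
    exact hr (Ideal.Quotient.eq.1 (by rw [← h1, mul_smul, e, inv_smul_smul]))⟩
  obtain ⟨b, hb⟩ := exists_normal_field (K := R ⧸ m) (G := MulAction.stabilizer H m)
  obtain ⟨b, rfl⟩ := Ideal.Quotient.mk_surjective b
  refine ⟨b, fun a ha ha' c hc g => Ideal.Quotient.eq_zero_iff_mem.1
    ((congrArg _ (congrArg c (one_mul g).symm)).trans
      (congrFun (hb (fun s => Ideal.Quotient.mk m (c (s * g))) fun t => ?_) 1))⟩
  rw [← Ideal.Quotient.eq_zero_iff_mem.2 (hc (g⁻¹ * t)), map_sum, ← Ideal.Quotient.eq.2 ha]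
  refine Fintype.sum_of_injective (fun s => s.1 * g) (fun s t h => Subtype.ext (mul_right_cancel h))
    _ _ (fun x hx => Ideal.Quotient.eq_zero_iff_mem.2 (m.mul_mem_left _ ?_)) fun s => by
      rw [h1, h1, map_mul, mul_assoc, mul_inv_cancel_left, mul_smul]
  rw [← inv_inv (x * _), ← Ideal.mem_pointwise_smul_iff_inv_smul_mem]
  refine ha' _ fun h2 => hx ⟨⟨x * g⁻¹, ?_⟩, inv_mul_cancel_right _ _⟩
  simpa [mul_assoc] using mul_mem (inv_mem (show _ ∈ MulAction.stabilizer H m from h2)) (inv_mem t.2)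

theorem exists_normal [DecidableEq H] [Finite (MaximalSpectrum R)]
    (h : ∀ m : Ideal R, m.IsMaximal → ∀ s : H, s ≠ 1 → ∃ r, s • r - r ∉ m) :
    ∃ a : R, IsUnit (Matrix.of fun g t : H => (g * t) • a).det := by
  classical
  choose b hb using fun m : MaximalSpectrum R => exists_normal_stab m.asIdeal (h _ m.isMaximal)
  let rep : Ideal R → Ideal R := fun m => (Quotient.mk (MulAction.orbitRel H _) m).out
  have h1 : ∀ m, ∃ g : H, g • m = rep m := fun m => Quotient.mk_out (s := MulAction.orbitRel H _) m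
  have h2 : ∀ (g : H) m, rep (g • m) = rep m := fun g m =>
    congrArg Quotient.out (Quotient.sound ⟨g, rfl⟩)
  have h3 : ∀ (g : H) (m : Ideal R), m.IsMaximal → (g • m).IsMaximal := fun g m hm =>
    Ideal.map_isMaximal_of_equiv (MulSemiringAction.toRingEquiv H R g)
  obtain ⟨a, ha⟩ := Ideal.exists_forall_sub_mem_ideal (I := MaximalSpectrum.asIdeal (R := R))
    (fun m n hmn => MaximalSpectrum.isCoprime_of_ne hmn)
    fun m => if rep m.asIdeal = m.asIdeal then b m else 0
  refine ⟨a, by_contra fun h4 => ?_⟩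
  obtain ⟨m, hm, h4⟩ := exists_max_ideal_of_mem_nonunits h4
  let _ := Ideal.Quotient.field m
  rw [← Ideal.Quotient.eq_zero_iff_mem, RingHom.map_det] at h4
  obtain ⟨v, hv, h4⟩ := Matrix.exists_vecMul_eq_zero_iff.2 h4
  choose c hc using fun g => Ideal.Quotient.mk_surjective (v g)
  obtain ⟨g, hg⟩ := h1 m
  have h5 : rep (g • m) = g • m := (h2 g m).trans hg.symm
  refine hv (funext fun x => (hc x).symm.trans (Ideal.Quotient.eq_zero_iff_mem.2 ?_))
  have := hb ⟨g • m, h3 g m hm⟩ a (by simpa [h5] using ha ⟨g • m, h3 g m hm⟩) (fun s hs => by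
    have := ha ⟨_, h3 s _ (h3 g m hm)⟩
    rwa [if_neg (fun h6 => hs (h6.symm.trans ((h2 s _).trans h5))), sub_zero] at this)
    (fun s => g • c (g⁻¹ * s)) (fun t => by
      have h6 : ∑ s, c s * (s * t) • a ∈ m := by
        rw [← Ideal.Quotient.eq_zero_iff_mem, map_sum]
        simpa [Matrix.vecMul, dotProduct, hc] using congrFun h4 t
      rw [← Equiv.sum_comp (Equiv.mulLeft g)]
      simpa [Finset.smul_sum, mul_smul] using Ideal.smul_mem_pointwise_smul g _ _ h6) (g * x)
  simpa [Ideal.smul_mem_pointwise_smul_iff] using this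

end H82
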