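import Mathlib
import Cfsg.Agent.Lib.Misc82.NormalBasis
import Cfsg.Agent.Lib.Perm.PermModule
import Cfsg.Agent.Lib.FGS83.FH1

/-!
# Modules for Frobenius groups without fixed points of the kernel are free over the complement
-/

set_option autoImplicit false

namespace H82

open Subgroup Module

universe u

variable {k : Type*} [Field k] {V : Type u} [AddCommGroup V] [Module k V]

section

variable {H : Type*} [Group H] [Fintype H]

/-- `V` is the direct sum of the translates of `W` -/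
def Fr (ρ : Representation k H V) (W : Submodule k V) : Prop :=
  (∀ c : H → V, (∀ h, c h ∈ W) → ∑ h, ρ h (c h) = 0 → ∀ h, c h = 0) ∧
    ∀ v, ∃ c : H → V, (∀ h, c h ∈ W) ∧ ∑ h, ρ h (c h) = v

theorem Fr.isInternal [DecidableEq H] {ρ : Representation k H V} {W : Submodule k V} (h : Fr ρ W) :
    DirectSum.IsInternal fun g : H => W.map (ρ g) := by
  refine (DirectSum.isInternal_submodule_iff_iSupIndep_and_iSup_eq_top _).2
    ⟨(iSupIndep_iff_finsetSum_eq_zero_imp_eq_zero _).2 fun s v hv h1 i hi => ?_,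
      eq_top_iff.2 fun v _ => ?_⟩
  · choose! c hc hc' using hv
    have := h.1 (fun g => if g ∈ s then c g else 0) (fun g => by
      split_ifs with hg
      exacts [hc g hg, zero_mem _]) (by
        simpa [apply_ite] using (Finset.sum_congr rfl hc').trans h1) i
    rw [← hc' i hi, (if_pos hi).symm.trans this, map_zero]
  · obtain ⟨c, hc, rfl⟩ := h.2 v
    exact Submodule.sum_mem _ fun g _ => Submodule.mem_iSup_of_mem g ⟨_, hc g, rfl⟩

theorem exists_fr_of_unit [DecidableEq H] (ρ : Representation k H V) {R : Type*} [CommRing R]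
    [Module R V] [SMulCommClass R k V] [MulSemiringAction H R]
    (hc : ∀ g (r : R) v, ρ g (r • v) = (g • r) • ρ g v) {a : R}
    (ha : IsUnit (Matrix.of fun g t : H => (g * t) • a).det) : ∃ W, Fr ρ W := by
  obtain ⟨M, hM⟩ := (Matrix.isUnit_iff_isUnit_det _).2 ha
  have h1 : ∀ (A B : Matrix H H R) (w : H → V) g, ∑ t, A g t • ∑ u, B t u • w u =
      ∑ u, (A * B) g u • w u := fun A B w g => by
    simp only [Finset.smul_sum, Matrix.mul_apply, Finset.sum_smul, mul_smul]
    exact Finset.sum_comm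
  have h2 : ∀ w : H → V, (∀ g, ∑ t, ((g * t) • a) • w t = 0) → ∀ t, w t = 0 := fun w hw t => by
    have := h1 M⁻¹.val M.val w t
    rw [M.inv_mul, hM] at this
    simpa [hw, Matrix.one_apply] using this.symm
  refine ⟨ρ.invariants.map (DistribSMul.toLinearMap k V a), fun c h3 h4 => ?_, fun v => ?_⟩
  · choose w hw hw' using h3
    intro g
    rw [← hw', h2 w (fun g => ?_) g, map_zero]
    have := congrArg (ρ g) h4
    simpa [← hw', hc, show ∀ t s, ρ s (w t) = w t from hw, mul_smul] using this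
  · have h3 : ∀ g, ∑ t, ((g * t) • a) • ∑ u, M⁻¹.val t u • ρ u v = ρ g v := fun g => by
      have := h1 M.val M⁻¹.val (fun u => ρ u v) g
      rw [M.mul_inv, hM] at this
      simpa [Matrix.one_apply] using this
    obtain ⟨w, h3⟩ : ∃ w : H → V, ∀ g, ∑ t, ((g * t) • a) • w t = ρ g v := ⟨_, h3⟩
    have h4 : ∀ s t, ρ s (w t) = w t := fun s t => sub_eq_zero.1 (h2 (fun t => ρ s (w t) - w t)
      (fun g => by
        have := congrArg (ρ s) (h3 (s⁻¹ * g))
        simp only [map_sum, hc, smul_smul, ← mul_assoc, mul_inv_cancel, one_mul,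
          ← Module.End.mul_apply, ← map_mul] at this
        simp only [smul_sub, Finset.sum_sub_distrib, this, h3, sub_self]) t)
    exact ⟨fun t => a • w t, fun t => ⟨w t, fun s => h4 s t, rfl⟩, by simpa [hc, h4] using h3 1⟩

theorem exists_fr_of_sub_quot (ρ : Representation k H V) (U : Submodule k V)
    (hU : ∀ g, U ≤ U.comap (ρ g)) (h1 : ∃ W, Fr (ρ.subrepresentation U hU) W)
    (h2 : ∃ W, Fr (ρ.quotient U hU) W) : ∃ W, Fr ρ W := by
  obtain ⟨W, h1⟩ := h1
  obtain ⟨W', h2⟩ := h2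
  obtain ⟨s, hs⟩ := U.mkQ.exists_rightInverse_of_surjective U.range_mkQ
  have hs' : ∀ x, U.mkQ (s x) = x := fun x => LinearMap.congr_fun hs x
  have h3 : ∀ (c : H → U) (d : H → V ⧸ U), U.mkQ (∑ h, ρ h (c h + s (d h))) =
      ∑ h, ρ.quotient U hU h (d h) := fun c d => by
    rw [map_sum]
    refine Finset.sum_congr rfl fun g _ => ?_
    rw [← hs' (d g), map_add, map_add, hs', U.mkQ_apply,
      (Submodule.Quotient.mk_eq_zero _).2 (show ρ g (c g) ∈ U from hU g (c g).2), zero_add]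
    nth_rw 2 [← hs' (d g)]
    rfl
  refine ⟨W.map U.subtype ⊔ W'.map s, fun c hc h4 => ?_, fun v => ?_⟩
  · simp only [Submodule.mem_sup, Submodule.mem_map] at hc
    choose _ hc _ hd e using hc
    choose c' hc e1 using hc
    choose d hd e2 using hd
    have h5 : ∀ g, c g = c' g + s (d g) := fun g => by rw [← e, ← e1, ← e2]; rfl
    simp only [h5] at h4 ⊢
    have h6 := h2.1 d hd (by rw [← h3 c' d, h4, map_zero])
    simp only [h6, map_zero, add_zero] at h4 ⊢
    exact fun g => congrArg Subtype.val (h1.1 c' hc (Subtype.ext (by simpa using h4)) g)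
  · obtain ⟨d, hd, e⟩ := h2.2 (U.mkQ v)
    obtain ⟨c, hc, e'⟩ := h1.2 ⟨v - ∑ h, ρ h (s (d h)), (Submodule.Quotient.eq _).1
      (e.symm.trans ((h3 0 d).symm.trans (by simp only [Pi.zero_apply, ZeroMemClass.coe_zero,
        zero_add, U.mkQ_apply])))⟩
    refine ⟨fun g => c g + s (d g), fun g => Submodule.add_mem_sup ⟨_, hc g, rfl⟩ ⟨_, hd g, rfl⟩, ?_⟩
    simpa [Finset.sum_add_distrib, eq_sub_iff_add_eq] using congrArg Subtype.val e'

end

variable {A : Type*} [Group A] [Finite A] {H : Subgroup A} [Fintype H]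

omit [Finite A] in
theorem sum_eq_zero_of_fix (ρ : Representation k A V) (N : Subgroup A) [Fintype N]
    (h0 : ∀ v, (∀ n ∈ N, ρ n v = v) → v = 0) (v : V) : ∑ n : N, ρ n v = 0 :=
  h0 _ fun n hn => by
    rw [map_sum, ← Equiv.sum_comp (Equiv.mulLeft (⟨n, hn⟩ : N)) fun n : N => ρ n v]
    simp

theorem exists_fr_of_comm [FiniteDimensional k V] (ρ : Representation k A V) (N : Subgroup A)
    [hN : N.Normal] (hc : ∀ x ∈ N, ∀ y ∈ N, ρ x * ρ y = ρ y * ρ x)
    (hsr : ∀ h ∈ H, h ≠ 1 → N ⊓ centralizer {h} = ⊥) (hk : (Nat.card N : k) ≠ 0)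
    (h0 : ∀ v, (∀ n ∈ N, ρ n v = v) → v = 0) : ∃ W, Fr (ρ.comp H.subtype) W := by
  classical
  let R := Algebra.adjoin k (ρ '' N)
  have : IsMulCommutative R := Algebra.isMulCommutative_adjoin k (by
    rintro _ ⟨x, hx, rfl⟩ _ ⟨y, hy, rfl⟩; exact hc x hx y hy)
  let _ : CommRing R := { (inferInstance : Ring R) with mul_comm := this.is_comm.comm }
  have e1 : ∀ g : A, ρ g * ρ g⁻¹ = 1 := fun g => by rw [← map_mul, mul_inv_cancel, map_one]
  have e2 : ∀ g : A, ρ g⁻¹ * ρ g = 1 := fun g => by rw [← map_mul, inv_mul_cancel, map_one]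
  have e3 : ∀ (g : A) x y, ρ g * (x * y) * ρ g⁻¹ = ρ g * x * ρ g⁻¹ * (ρ g * y * ρ g⁻¹) :=
    fun g x y => by simp only [mul_assoc, ← mul_assoc (ρ g⁻¹), e2, one_mul]
  have hR : ∀ g : A, ∀ r ∈ R, ρ g * r * ρ g⁻¹ ∈ R := fun g r hr => by
    induction hr using Algebra.adjoin_induction with
    | mem x hx =>
      obtain ⟨x, hx, rfl⟩ := hx
      exact Algebra.subset_adjoin ⟨_, hN.conj_mem x hx g, by rw [map_mul, map_mul]⟩
    | algebraMap c => rw [← Algebra.commutes, mul_assoc, e1, mul_one]; exact R.algebraMap_mem c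
    | add x y _ _ hx hy => rw [mul_add, add_mul]; exact add_mem hx hy
    | mul x y _ _ hx hy => rw [e3]; exact mul_mem hx hy
  let _ : MulSemiringAction H R :=
    { smul g r := ⟨ρ g * r * ρ (g : A)⁻¹, hR g r r.2⟩
      one_smul r := Subtype.ext (show ρ 1 * r * ρ 1⁻¹ = r by simp)
      mul_smul g h r := Subtype.ext (show ρ (g * h) * r * ρ (g * h : A)⁻¹ =
        ρ g * (ρ h * r * ρ (h : A)⁻¹) * ρ (g : A)⁻¹ by simp only [mul_inv_rev, map_mul, mul_assoc])
      smul_zero g := Subtype.ext (show ρ g * 0 * ρ (g : A)⁻¹ = 0 by simp)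
      smul_add g x y := Subtype.ext (show ρ g * (x + y) * ρ (g : A)⁻¹ =
        ρ g * x * ρ (g : A)⁻¹ + ρ g * y * ρ (g : A)⁻¹ by rw [mul_add, add_mul])
      smul_one g := Subtype.ext (show ρ g * 1 * ρ (g : A)⁻¹ = 1 by rw [mul_one, e1])
      smul_mul g x y := Subtype.ext (e3 g x y) }
  have : IsArtinianRing R := IsArtinianRing.of_finite k R
  obtain ⟨a, ha⟩ := exists_normal (R := R) (H := H) fun m hm s hs => by
    by_contra h1
    push Not at h1
    let j : N → R := fun n => ⟨ρ n, Algebra.subset_adjoin ⟨n, n.2, rfl⟩⟩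
    have h2 : Function.Injective fun n : N => (⟨s * n * s⁻¹, hN.conj_mem _ n.2 _⟩ * n⁻¹ : N) :=
      fun x y h => by
        have h2 : (s : A) * x * s⁻¹ * x⁻¹ = s * y * s⁻¹ * y⁻¹ := congrArg Subtype.val h
        have : (y : A)⁻¹ * x ∈ N ⊓ centralizer {(s : A)} := mem_inf.2 ⟨mul_mem (inv_mem y.2) x.2,
          mem_centralizer_singleton_iff.2 (by
            calc (y : A)⁻¹ * x * s = (y : A)⁻¹ * ((s : A) * x * (s : A)⁻¹ * (x : A)⁻¹)⁻¹ * s * x := by
                  group
              _ = _ := by rw [show (s : A) * x * (s : A)⁻¹ * (x : A)⁻¹ = _ from h2]; simp; group)⟩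
        rw [hsr s s.2 fun h => hs (Subtype.ext h), mem_bot, inv_mul_eq_one] at this
        exact Subtype.ext this.symm
    have h3 : ∀ n, 1 - j n ∈ m := fun n => by
      obtain ⟨n, rfl⟩ := Finite.injective_iff_surjective.1 h2 n
      convert neg_mem (m.mul_mem_right (j n⁻¹) (h1 (j n))) using 1
      refine Subtype.ext ?_
      change 1 - ρ (s * n * s⁻¹ * n⁻¹) = -((ρ s * ρ n * ρ s⁻¹ - ρ n) * ρ n⁻¹)
      rw [sub_mul, e1, neg_sub, map_mul, map_mul, map_mul]
      rfl
    have := Fintype.ofFinite N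
    have h4 := m.sum_mem (t := Finset.univ) fun n _ => h3 n
    rw [Finset.sum_sub_distrib, show ∑ n, j n = 0 from Subtype.ext (LinearMap.ext fun v => by
      simpa [j] using sum_eq_zero_of_fix ρ N h0 v), sub_zero, Finset.sum_const, Finset.card_univ,
      ← Nat.card_eq_fintype_card, nsmul_one, ← map_natCast (algebraMap k R)] at h4
    exact hm.ne_top (m.eq_top_of_isUnit_mem h4 ((Ne.isUnit hk).map _))
  refine exists_fr_of_unit _ (fun g r v => ?_) ha
  change ρ g (r.1 v) = (ρ g * r * ρ (g : A)⁻¹) (ρ g v)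
  rw [← Module.End.mul_apply _ (ρ g), mul_assoc, e2, mul_one, Module.End.mul_apply]

theorem exists_fr_of_coprime (F : Subgroup A) [hF : F.Normal] (hn : Group.IsNilpotent F)
    (hsr : ∀ h ∈ H, h ≠ 1 → F ⊓ centralizer {h} = ⊥) (hk : (Nat.card F : k) ≠ 0) (n : ℕ) :
    ∀ (V : Type u) [AddCommGroup V] [Module k V] [FiniteDimensional k V] (ρ : Representation k A V),
      finrank k V = n → (∀ v, (∀ f ∈ F, ρ f v = v) → v = 0) → ∃ W, Fr (ρ.comp H.subtype) W := by
  induction n using Nat.strong_induction_on with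
  | _ n ih =>
  intro V _ _ _ ρ hV h0
  rcases subsingleton_or_nontrivial V with h1 | h1
  · exact ⟨⊥, fun _ _ _ _ => Subsingleton.elim _ _,
      fun _ => ⟨0, fun _ => zero_mem _, Subsingleton.elim _ _⟩⟩
  let N := F ⊓ (centralizer (F.map ρ.asGroupHom : Set (End k V)ˣ)).comap ρ.asGroupHom
  have hN : N.Normal := ⟨fun x hx g => ⟨hF.conj_mem x hx.1 g, by
    rintro _ ⟨f, hf, rfl⟩
    have := hx.2 _ ⟨_, hF.conj_mem f hf g⁻¹, rfl⟩
    simp only [map_mul, map_inv, inv_inv] at this ⊢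
    generalize ρ.asGroupHom f = a, ρ.asGroupHom g = b, ρ.asGroupHom x = c at this ⊢
    calc a * (b * c * b⁻¹) = b * (b⁻¹ * a * b * c) * b⁻¹ := by group
      _ = _ := by rw [this]; group⟩⟩
  let U := Representation.invariants (ρ.comp N.subtype)
  have hU := ρ.le_comap_invariants N
  have h2 : U ≠ ⊤ := fun h2 => by
    have : Nontrivial (F.map ρ.asGroupHom) := (nontrivial_iff_ne_bot _).2 fun h => by
      obtain ⟨v, hv⟩ := exists_ne (0 : V)
      exact hv (h0 v fun f hf => LinearMap.congr_fun (congrArg Units.val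
        ((Subgroup.map_eq_bot_iff _).1 h hf : ρ.asGroupHom f = 1)) v)
    have := H1.isNilpotent_map hn ρ.asGroupHom
    obtain ⟨⟨⟨_, f, hf, rfl⟩, h3⟩, h4⟩ := (ne_bot_iff_exists_ne_one.1
      (Group.IsNilpotent.center_ne_bot (F.map ρ.asGroupHom)) : _)
    exact h4 (Subtype.ext (Subtype.ext (Units.ext (LinearMap.ext fun v => h2.ge (Submodule.mem_top (x := v))
      ⟨f, hf, fun y hy => congrArg Subtype.val (mem_center_iff.1 h3 ⟨y, hy⟩)⟩))))
  by_cases h3 : U = ⊥
  · exact exists_fr_of_comm ρ N (fun x hx y hy => congrArg Units.val (hy.2 _ ⟨x, hx.1, rfl⟩))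
      (fun h hh h1 => eq_bot_iff.2 ((inf_le_inf_right _ inf_le_left).trans (hsr h hh h1).le))
      (ne_zero_of_dvd_ne_zero hk (Nat.cast_dvd_cast (card_dvd_of_le inf_le_left)))
      fun v hv => h3.le (show v ∈ U from fun n => hv n n.2)
  refine exists_fr_of_sub_quot _ U (fun g => hU g)
    (ih _ (hV ▸ Submodule.finrank_lt h2) U (ρ.subrepresentation U hU) rfl fun v hv =>
      Subtype.ext (h0 v fun f hf => congrArg Subtype.val (hv f hf)))
    (ih _ ?_ (V ⧸ U) (ρ.quotient U hU) rfl fun v hv => ?_)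
  · have := U.finrank_quotient_add_finrank
    have := (Submodule.one_le_finrank_iff).2 h3
    omega
  · obtain ⟨v, rfl⟩ := U.mkQ_surjective v
    have := Fintype.ofFinite F
    have h4 := congrArg U.mkQ (sum_eq_zero_of_fix ρ F h0 v)
    rw [map_sum, Finset.sum_congr rfl fun f _ => hv f.1 f.2, Finset.sum_const, Finset.card_univ,
      ← Nat.card_eq_fintype_card, ← Nat.cast_smul_eq_nsmul k, map_zero] at h4
    exact (smul_eq_zero.1 h4).resolve_left hk

theorem exists_fr [FiniteDimensional k V] (ρ : Representation k A V) (F : Subgroup A)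
    [hF : F.Normal] (hn : Group.IsNilpotent F) (hsr : ∀ h ∈ H, h ≠ 1 → F ⊓ centralizer {h} = ⊥)
    (h0 : ∀ v, (∀ f ∈ F, ρ f v = v) → v = 0) : ∃ W, Fr (ρ.comp H.subtype) W := by
  obtain ⟨p, hp⟩ := CharP.exists k
  rcases CharP.char_is_prime_or_zero k p with h1 | rfl
  swap
  · have := CharP.charP_to_charZero k
    exact exists_fr_of_coprime F hn hsr (Nat.cast_ne_zero.2 Nat.card_pos.ne') _ V ρ rfl h0
  have := Fact.mk h1
  obtain ⟨K, hK, h2, h3, h4⟩ := H83.exists_pPrime_part F hn p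
  have : K.Normal := normalizer_eq_top_iff.1 (eq_top_iff.2 (le_normalizer_of_normal.trans h2))
  refine exists_fr_of_coprime K (H1.isNilpotent_of_le hn hK)
    (fun h hh h1 => eq_bot_iff.2 ((inf_le_inf_right _ hK).trans (hsr h hh h1).le))
    ((CharP.cast_eq_zero_iff k p _).not.2 (h1.coprime_iff_not_dvd.1 h3.symm)) _ V ρ rfl
    fun v hv => by_contra fun h5 => ?_
  let σ : Representation k F _ := (ρ.toInvariants K).comp F.subtype
  have := Finite.of_surjective _ σ.asGroupHom.rangeRestrict_surjective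
  obtain ⟨w, -, h6, h7⟩ := H26.exists_fixed_vector_of_isPGroup (p := p) (P := σ.asGroupHom.range) (by
    rintro ⟨_, f, rfl⟩
    obtain ⟨n, hn⟩ := h4 f f.2
    refine ⟨n, Subtype.ext (Units.ext (LinearMap.ext fun w => Subtype.ext ?_))⟩
    rw [coe_pow, ← map_pow]
    exact w.2 ⟨_, hn⟩) ((Units.coeHom _).comp σ.asGroupHom.range.subtype) ⊤ (fun _ _ _ => trivial)
      ((Submodule.ne_bot_iff _).2 ⟨⟨v, fun n => hv n n.2⟩, trivial,
        fun h => h5 (congrArg Subtype.val h)⟩)
  exact h6 (Subtype.ext (h0 w fun f hf => congrArg Subtype.val (h7 ⟨_, ⟨f, hf⟩, rfl⟩)))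

end H82
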