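import Mathlib

/-!
# Subgroups generated by small conjugacy classes
-/

set_option autoImplicit false

namespace H82

open Subgroup
open scoped commutatorElement

variable {G : Type*} [Group G]

theorem ncard_conj (H : Subgroup G) (y : G) :
    {z | ∃ h ∈ H, h * y * h⁻¹ = z}.ncard = (centralizer {y}).relIndex H := by
  let _ : MulAction H G := MulAction.compHom G (MulAut.conj.comp H.subtype)
  have h1 : MulAction.stabilizer H y = (centralizer {y}).subgroupOf H := by
    ext h
    rw [MulAction.mem_stabilizer_iff, mem_subgroupOf, mem_centralizer_singleton_iff]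
    exact mul_inv_eq_iff_eq_mul
  rw [relIndex, ← h1, MulAction.index_stabilizer]
  congr 1
  ext z
  exact ⟨fun ⟨h, hh, e⟩ => ⟨⟨h, hh⟩, e⟩, fun ⟨h, e⟩ => ⟨h, h.2, e⟩⟩

theorem index_centralizer_comm_lt [Finite G] {A : Subgroup G} [hn : A.Normal]
    (hA : ∀ a ∈ A, ∀ b ∈ A, a * b = b * a) {a : G} (ha : a ∈ A) (x : G) (h : ⁅a, x⁆ ≠ 1) :
    (centralizer {⁅a, x⁆}).index < (centralizer {x}).index := by
  set H := A ⊔ centralizer {x}
  have h1 : {z | ∃ h ∈ H, h * ⁅a, x⁆ * h⁻¹ = z}.ncard < {z | ∃ h ∈ H, h * x * h⁻¹ = z}.ncard := by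
    rw [← Set.ncard_image_of_injective _ (mul_left_injective x)]
    refine Set.ncard_lt_ncard ⟨?_, fun h2 => ?_⟩
    · rintro _ ⟨_, ⟨g, hg, rfl⟩, rfl⟩
      obtain ⟨b, hb, c, hc, rfl⟩ := mem_sup_of_normal_left.1 hg
      have h2 := hn.conj_mem a ha c
      have h3 : c * ⁅a, x⁆ * c⁻¹ = ⁅c * a * c⁻¹, x⁆ := by
        rw [conjugate_commutatorElement, mul_inv_eq_iff_eq_mul.2 (mem_centralizer_singleton_iff.1 hc)]
      refine ⟨_, mem_sup_left h2, ?_⟩
      have h4 := hA b hb _ (commutatorElement_def (c * a * c⁻¹) x ▸ mul_assoc (c * a * c⁻¹) x _ ▸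
        mul_assoc (c * a * c⁻¹) _ x⁻¹ ▸ mul_mem h2 (hn.conj_mem _ (inv_mem h2) x))
      simp only [mul_inv_rev, ← mul_assoc]
      rw [mul_assoc b, mul_assoc b, h3, h4, commutatorElement_def]
      group
    · obtain ⟨_, ⟨g, -, rfl⟩, h3⟩ := h2 (a := x) ⟨1, one_mem _, by simp⟩
      exact h (by simpa using h3)
  rw [ncard_conj, ncard_conj] at h1
  calc _ ≤ (centralizer {⁅a, x⁆} ⊓ H).index := index_antitone inf_le_left
    _ = _ := by rw [← relIndex_mul_index inf_le_right, inf_relIndex_right]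
    _ < _ := Nat.mul_lt_mul_of_pos_right h1 (Nat.pos_of_ne_zero index_ne_zero_of_finite)
    _ = _ := relIndex_mul_index le_sup_right

theorem comm_four {A : Subgroup G} [A.Normal] (hC : centralizer (A : Set G) = A) {S : Set G}
    (hS : ∀ x ∈ S, ∀ a ∈ A, ⁅a, x⁆ ∈ center G) {x y z : G} (hx : x ∈ closure S)
    (hy : y ∈ closure S) (hz : z ∈ closure S) (w : G) : ⁅⁅⁅x, y⁆, z⁆, w⁆ = 1 := by
  have h1 : ∀ x ∈ closure S, ∀ a ∈ A, ⁅a, x⁆ ∈ center G := fun x hx => by
    have : QuotientGroup.mk' (center G) x ∈ centralizer (A.map (QuotientGroup.mk' (center G))) := by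
      refine (closure_le ((centralizer _).comap _)).2 (fun s hs => ?_) hx
      rintro _ ⟨a, ha, rfl⟩
      rw [← commutatorElement_eq_one_iff_mul_comm, ← map_commutatorElement]
      exact (QuotientGroup.eq_one_iff _).2 (hS s hs a ha)
    intro a ha
    rw [← QuotientGroup.eq_one_iff, ← QuotientGroup.mk'_apply, map_commutatorElement,
      commutatorElement_eq_one_iff_mul_comm]
    exact this _ ⟨a, ha, rfl⟩
  have h2 : ⁅⁅A, closure S⁆, closure S⁆ = ⊥ := commutator_eq_bot_iff_le_centralizer.2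
    ((commutator_le.2 fun a ha x hx => h1 x hx a ha).trans (center_le_centralizer _))
  have h3 := commutator_commutator_eq_bot_of_rotate (by rwa [commutator_comm (closure S) A]) h2
  rw [commutator_eq_bot_iff_le_centralizer, hC] at h3
  exact commutatorElement_eq_one_iff_mul_comm.2
    (mem_center_iff.1 (h1 z hz _ (h3 (commutator_mem_commutator hx hy))) w).symm

theorem comm_mem_center_of_small [Finite G] {A : Subgroup G} [A.Normal] (hA : IsMulCommutative A)
    {m : ℕ} (hmin : ∀ x : G, 1 < (centralizer {x}).index → m ≤ (centralizer {x}).index) {x : G}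
    (hx : (centralizer {x}).index = 1 ∨ (centralizer {x}).index = m) {a : G} (ha : a ∈ A) :
    ⁅a, x⁆ ∈ center G := by
  by_cases h : ⁅a, x⁆ = 1
  · rw [h]; exact one_mem _
  have h1 := index_centralizer_comm_lt (fun a ha b hb => setLike_mul_comm ha hb) ha x h
  have h2 := hmin ⁅a, x⁆
  have h3 : (centralizer {⁅a, x⁆}).index ≠ 0 := index_ne_zero_of_finite
  have h4 : centralizer {⁅a, x⁆} = ⊤ := index_eq_one.1 (by omega)
  exact mem_center_iff.2 fun g => mem_centralizer_singleton_iff.1 (h4 ▸ mem_top g)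

theorem upperCentralSeries_three_eq_top (h : ∀ x y z w : G, ⁅⁅⁅x, y⁆, z⁆, w⁆ = 1) :
    Subgroup.upperCentralSeries G 3 = ⊤ :=
  eq_top_iff.2 fun x _ y z w => h x y z w

end H82
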