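import Mathlib
import Cfsg.Agent.Lib.FGS.OrderType
import Cfsg.Agent.Lib.Misc82.SmallClass

/-!
# The number of conjugacy classes of `π`-elements is submultiplicative
-/

set_option autoImplicit false

namespace H82

open Subgroup H79

variable {G : Type*} [Group G] [Finite G]

/-- number of commuting pairs with prescribed properties -/
noncomputable def cp (P Q : G → Prop) : ℕ := {p : G × G | P p.1 ∧ Q p.2 ∧ Commute p.1 p.2}.ncard

omit [Finite G] in
theorem cp_comm (P Q : G → Prop) : cp P Q = cp Q P := by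
  rw [cp, ← Set.ncard_image_of_injective _ Prod.swap_injective, Set.image_swap_eq_preimage_swap]
  congr 1
  ext p
  exact ⟨fun h => ⟨h.2.1, h.1, h.2.2.symm⟩, fun h => ⟨h.2.1, h.1, h.2.2.symm⟩⟩

theorem cp_coset_le (N : Subgroup G) (P : G → Prop) (c : G ⧸ N) :
    cp P (fun g => (g : G ⧸ N) = c) ≤ cp P (· ∈ N) := by
  classical
  let s : G → G := fun x => if h : ∃ g : G, (g : G ⧸ N) = c ∧ Commute x g then h.choose else 1
  have hs : ∀ x g : G, (g : G ⧸ N) = c → Commute x g → (s x : G ⧸ N) = c ∧ Commute x (s x) :=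
    fun x g h1 h2 => by
      have h : ∃ g : G, (g : G ⧸ N) = c ∧ Commute x g := ⟨g, h1, h2⟩
      simp only [s, dif_pos h]
      exact h.choose_spec
  refine Set.ncard_le_ncard_of_injOn (fun p => (p.1, (s p.1)⁻¹ * p.2)) (fun p hp => ?_)
    fun p _ q _ h => ?_
  · obtain ⟨h1, h2⟩ := hs _ _ hp.2.1 hp.2.2
    exact ⟨hp.1, QuotientGroup.eq.1 (h1.trans hp.2.1.symm), h2.inv_right.mul_right hp.2.2⟩
  · obtain ⟨h1, h2⟩ := Prod.ext_iff.1 h
    exact Prod.ext h1 (by simpa [show p.1 = q.1 from h1] using h2)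

omit [Finite G] in
theorem pi_unique {π : Set ℕ} {x y a b : G} (hx : IsPiElt π x) (hy : IsPiElt π y)
    (ha : IsPiElt πᶜ a) (hb : IsPiElt πᶜ b) (h1 : Commute x a) (h2 : Commute y b)
    (h : x * a = y * b) : x = y := by
  have h3 : (orderOf x * orderOf y).Coprime (orderOf a * orderOf b) :=
    Nat.coprime_mul_iff_left.2 ⟨(hx.coprime ha).mul_right (hx.coprime hb),
      (hy.coprime ha).mul_right (hy.coprime hb)⟩
  obtain ⟨e, h4, h5⟩ := Nat.chineseRemainder h3 1 0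
  have h6 := congrArg (· ^ e) h
  simp only [h1.mul_pow, h2.mul_pow] at h6
  rwa [pow_eq_pow_iff_modEq.2 (h4.of_mul_right _), pow_eq_pow_iff_modEq.2 (h4.of_mul_left _),
    pow_eq_pow_iff_modEq.2 (h5.of_mul_right _), pow_eq_pow_iff_modEq.2 (h5.of_mul_left _),
    pow_zero, pow_zero, pow_one, pow_one, mul_one, mul_one] at h6

theorem cp_pi_le (N : Subgroup G) (π : Set ℕ) (c : G ⧸ N) :
    cp (fun x : G => IsPiElt π x ∧ (x : G ⧸ N) = c) (· ∈ N) ≤
      cp (fun x : G => (x : G ⧸ N) = c) (fun n => n ∈ N ∧ IsPiElt π n) := by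
  choose a b ha hb hab using exists_piPart (G := G) π
  refine Set.ncard_le_ncard_of_injOn (fun p => (p.1 * p.2 ^ b p.2, p.2 ^ a p.2)) (fun p hp => ?_)
    fun p hp q hq h => ?_
  · exact ⟨(QuotientGroup.mk_mul_of_mem _ (pow_mem hp.2.1 _)).trans hp.1.2,
      ⟨pow_mem hp.2.1 _, ha _⟩, (hp.2.2.pow_right _).mul_left (Commute.pow_pow_self _ _ _)⟩
  · obtain ⟨h1, h2⟩ := Prod.ext_iff.1 h
    have h3 := pi_unique hp.1.1 hq.1.1 (hb _) (hb _) (hp.2.2.pow_right _) (hq.2.2.pow_right _) h1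
    refine Prod.ext h3 ?_
    simp only [h3, mul_right_inj] at h1 h2
    rw [← hab p.2, h1, h2, hab]

omit [Finite G] in
theorem cp_subgroup (N : Subgroup G) (π : Set ℕ) :
    cp (fun n => n ∈ N ∧ IsPiElt π n) (· ∈ N) = cp (IsPiElt π : N → Prop) fun _ => True := by
  rw [cp, cp, ← Set.ncard_image_of_injective _ (Subtype.val_injective.prodMap Subtype.val_injective)]
  congr 1
  ext ⟨x, y⟩
  exact ⟨fun h => ⟨(⟨x, h.1.1⟩, ⟨y, h.2.1⟩), ⟨(isPiElt_coe _).1 h.1.2, trivial, Subtype.ext h.2.2⟩,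
    rfl⟩, by
      rintro ⟨⟨a, b⟩, h, ⟨⟩⟩
      exact ⟨⟨a.2, (isPiElt_coe _).2 h.1⟩, b.2, congrArg Subtype.val h.2.2⟩⟩

theorem ncard_eq_sum {α β : Type*} [Finite α] [Finite β] {s : Set α} {t : Set β} (f : α → β)
    (hf : ∀ a ∈ s, f a ∈ t) : s.ncard = ∑ b ∈ t.toFinite.toFinset, {a ∈ s | f a = b}.ncard := by
  classical
  rw [Set.ncard_eq_toFinset_card s, Finset.card_eq_sum_card_fiberwise (f := f)
    (t := t.toFinite.toFinset) fun a ha => by simpa using hf a (by simpa using ha)]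
  refine Finset.sum_congr rfl fun b _ => ?_
  rw [← Set.ncard_coe_finset]
  congr 1
  ext a
  simp

theorem ncard_le_mul {α β : Type*} [Finite α] [Finite β] {s : Set α} {t : Set β} (f : α → β) {n : ℕ}
    (hf : ∀ a ∈ s, f a ∈ t) (h : ∀ b ∈ t, {a ∈ s | f a = b}.ncard ≤ n) : s.ncard ≤ t.ncard * n := by
  rw [ncard_eq_sum f hf, Set.ncard_eq_toFinset_card t]
  exact Finset.sum_le_card_nsmul _ _ _ fun b hb => h b (by simpa using hb)

theorem ncard_mul_eq {α β : Type*} [Finite α] [Finite β] {s : Set α} {t : Set β} (f : α → β)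
    {m n : ℕ} (hf : ∀ a ∈ s, f a ∈ t) (h : ∀ b ∈ t, {a ∈ s | f a = b}.ncard * m = n) :
    s.ncard * m = t.ncard * n := by
  rw [ncard_eq_sum f hf, Set.ncard_eq_toFinset_card t, Finset.sum_mul]
  exact Finset.sum_const_nat fun b hb => h b (by simpa using hb)

theorem cp_le (N : Subgroup G) [N.Normal] (π : Set ℕ) :
    cp (IsPiElt π : G → Prop) (fun _ => True) ≤
      cp (IsPiElt π : G ⧸ N → Prop) (fun _ => True) * cp (IsPiElt π : N → Prop) fun _ => True := by
  refine ncard_le_mul (Prod.map (QuotientGroup.mk' N) (QuotientGroup.mk' N))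
    (fun p hp => ⟨hp.1.map _, trivial, hp.2.2.map _⟩) fun ⟨c, d⟩ _ => ?_
  calc _ = cp (fun x : G => IsPiElt π x ∧ (x : G ⧸ N) = c) (fun g : G => (g : G ⧸ N) = d) := by
        congr 1
        ext p
        simp only [Set.mem_ofPred_eq, Prod.ext_iff]
        tauto
    _ ≤ _ := cp_coset_le N _ d
    _ ≤ _ := cp_pi_le N π c
    _ = _ := cp_comm _ _
    _ ≤ _ := cp_coset_le N _ c
    _ = _ := cp_subgroup N π

theorem cp_class (a : G) : cp (fun x => ConjClasses.mk x = ConjClasses.mk a) (fun _ => True) =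
    Nat.card G := by
  have h1 : ∀ x, ConjClasses.mk x = ConjClasses.mk a → {y | ConjClasses.mk y = ConjClasses.mk a}.ncard
      = (centralizer {x}).index := fun x hx => by
    rw [← relIndex_top_right, ← ncard_conj, ← hx]
    congr 1
    ext y
    simp [eq_comm (b := ConjClasses.mk x), ConjClasses.mk_eq_mk_iff_isConj]
  refine Nat.eq_of_mul_eq_mul_right (Nat.pos_of_ne_zero (h1 a rfl ▸ index_ne_zero_of_finite :
    {y | ConjClasses.mk y = ConjClasses.mk a}.ncard ≠ 0)) ?_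
  rw [mul_comm (Nat.card G)]
  refine ncard_mul_eq Prod.fst (fun p hp => hp.1) fun x hx => ?_
  rw [h1 x hx, ← (centralizer {x}).card_mul_index, ← SetLike.coe_sort_coe, Nat.card_coe_set_eq,
    ← Set.ncard_image_of_injective (centralizer {x} : Set G) (Prod.mk_right_injective x)]
  refine congrArg (· * _) (congrArg Set.ncard ?_)
  ext ⟨y, z⟩
  exact ⟨by
    rintro ⟨h, rfl⟩
    exact ⟨z, mem_centralizer_singleton_iff.2 h.2.2.symm, rfl⟩, by
    rintro ⟨z, h, ⟨⟩⟩
    exact ⟨⟨hx, trivial, (mem_centralizer_singleton_iff.1 h).symm⟩, rfl⟩⟩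

theorem card_piClasses_mul (π : Set ℕ) : Nat.card {C : ConjClasses G // ∀ q : ℕ, q.Prime →
    (∃ g : G, ConjClasses.mk g = C ∧ q ∣ orderOf g) → q ∈ π} * Nat.card G =
      cp (IsPiElt π : G → Prop) fun _ => True := by
  have h1 : ∀ x y : G, ConjClasses.mk x = ConjClasses.mk y → IsPiElt π x → IsPiElt π y :=
    fun x y h hx => by
      obtain ⟨c, rfl⟩ := isConj_iff.1 (ConjClasses.mk_eq_mk_iff_isConj.1 h)
      exact hx.conj c
  rw [← mul_one (cp _ _)]
  refine (ncard_mul_eq (t := {C : ConjClasses G | ∀ q : ℕ, q.Prime →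
    (∃ g : G, ConjClasses.mk g = C ∧ q ∣ orderOf g) → q ∈ π}) (fun p => ConjClasses.mk p.1)
    (fun p hp q hq ⟨g, h, hg⟩ => h1 _ _ h.symm hp.1 q hq hg) fun C hC => ?_).symm
  obtain ⟨a, rfl⟩ := ConjClasses.mk_surjective C
  rw [mul_one, ← cp_class a]
  congr 1
  ext p
  exact ⟨fun h => ⟨h.2, h.1.2⟩, fun h => ⟨⟨fun q hq hd => hC q hq ⟨_, h.1, hd⟩, h.2⟩, h.1⟩⟩

end H82
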