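import Mathlib
import Cfsg.Agent.Lib.Char.BrauerInd
import Cfsg.Agent.Lib.Char.More
import Cfsg.Agent.Lib.Core.GrpBasic

/-!
# Every finite solvable group embeds in a monomial group
-/

set_option autoImplicit false

namespace H82

open Subgroup Cfsg H6
open scoped ComplexConjugate

universe u

/-- all irreducible characters are monomial -/
def IsM (M : Type u) [Group M] [Fintype M] : Prop := ∀ χ : M → ℂ, IsIrrCharacter M χ →
  ∃ (H : Subgroup M) (lam : H →* ℂˣ), χ = indFun H fun h => (lam h : ℂ)

theorem eq_indFun_of_le {G : Type u} [Group G] [Fintype G] {χ : G → ℂ} (hχ : IsIrrCharacter G χ)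
    (H : Subgroup G) [Fintype H] (lam : H →* ℂˣ)
    (h : classInner (fun h : H => χ h) (fun h => (lam h : ℂ)) ≠ 0) (h1 : (H.index : ℝ) ≤ (χ 1).re) :
    χ = indFun H fun h => (lam h : ℂ) := by
  rw [← H7.classInner_indFun_right H _ (irr_isClassFunction hχ), Ne, classInner_eq_zero_comm] at h
  have h2 := isCharacter_sub_of_inner_ne_zero (H7.isCharacter_indFun_hom H lam) hχ h
  obtain ⟨n, hn⟩ := char_one_nat h2
  have h3 := congrArg Complex.re hn
  simp only [Pi.sub_apply, H7.indFun_one, map_one, Units.val_one, mul_one, Complex.sub_re,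
    Complex.natCast_re] at h3
  have : (n : ℝ) = 0 := le_antisymm (by linarith) n.cast_nonneg
  exact (sub_eq_zero.1 (char_eq_zero_of_one h2 (by rw [hn, Nat.cast_eq_zero.1 this]; simp))).symm

theorem classInner_pi {ι : Type*} [Fintype ι] [DecidableEq ι] {G : ι → Type u} [∀ i, Group (G i)]
    [∀ i, Fintype (G i)] (a b : ∀ i, G i → ℂ) :
    classInner (fun f : ∀ i, G i => ∏ i, a i (f i)) (fun f => ∏ i, b i (f i)) =
      ∏ i, classInner (a i) (b i) := by
  simp only [classInner_def, Finset.prod_mul_distrib, Fintype.prod_sum, Nat.card_pi, map_prod,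
    Nat.cast_prod, Finset.prod_inv_distrib]

theorem sum_le_of_inner_ne_zero {G : Type u} [Group G] [Fintype G] {χ : G → ℂ}
    (hχ : IsCharacter G χ) {ι : Type*} [Fintype ι] (ψ : ι → IrrCharacter G)
    (hψ : Function.Injective ψ) (h : ∀ i, classInner χ (ψ i) ≠ 0) :
    ∑ i, ((ψ i).1 1).re ≤ (χ 1).re := by
  classical
  obtain ⟨m, rfl⟩ := char_eq_sum_irr hχ
  simp only [inner_sum_irr, Nat.cast_ne_zero] at h
  have h1 : ∀ φ : IrrCharacter G, 0 ≤ (φ.1 1).re := fun φ => by
    obtain ⟨n, -, hn⟩ := irr_one_pos φ.2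
    simp [hn]
  rw [Finset.sum_apply, Complex.re_sum, ← Finset.sum_image (s := Finset.univ) (g := ψ)
    (f := fun φ => (φ.1 1).re) hψ.injOn]
  refine (Finset.sum_le_sum fun φ hφ => ?_).trans (Finset.sum_le_sum_of_subset_of_nonneg
    (Finset.subset_univ _) fun φ _ _ => by simpa using mul_nonneg (m φ).cast_nonneg (h1 φ))
  obtain ⟨i, -, rfl⟩ := Finset.mem_image.1 hφ
  simpa using le_mul_of_one_le_left (h1 _) (Nat.one_le_cast.2 (Nat.pos_of_ne_zero (h i)))

section wreath

variable {M Q : Type u} [Group M] [Fintype M] [CommGroup Q] [Fintype Q] [DecidableEq Q]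

/-- the base group -/
def wrBase (M Q : Type u) [Group M] [Group Q] : (Q → M) →* M ≀ᵣ Q where
  toFun f := ⟨f, 1⟩
  map_one' := rfl
  map_mul' f g := by ext <;> simp

/-- product characters -/
noncomputable def piIrr (θ : Q → IrrCharacter M) : IrrCharacter (Q → M) :=
  ⟨fun f => ∏ q, (θ q).1 (f q), isIrr_of_char_of_inner_self (by
    convert isCharacter_prod Finset.univ fun q _ => isCharacter_comp (Pi.evalMonoidHom (fun _ => M) q)
      (irr_isCharacter (θ q).2)
    simp) (by simp [classInner_pi, fun q => irr_inner_self (θ q).2])⟩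

omit [CommGroup Q] in
theorem piIrr_injective : Function.Injective (piIrr : (Q → IrrCharacter M) → _) := fun θ η h => by
  have h1 := irr_inner_self (piIrr θ).2
  nth_rw 2 [h] at h1
  have h2 := (classInner_pi _ _).symm.trans h1
  funext q
  exact Subtype.ext (irr_eq_of_inner_ne_zero (θ q).2 (η q).2 fun h3 =>
    zero_ne_one ((Finset.prod_eq_zero (Finset.mem_univ q) h3).symm.trans h2))

omit [CommGroup Q] in
theorem exists_piIrr {φ : (Q → M) → ℂ} (h : φ 1 ≠ 0) : ∃ θ, classInner φ (piIrr θ).1 ≠ 0 := by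
  classical
  by_contra h1
  push Not at h1
  have h2 : regChar (Q → M) = ∑ θ : Q → IrrCharacter M, (∏ q, (θ q).1 1) • (piIrr θ).1 := by
    funext f
    have : regChar (Q → M) f = ∏ q, regChar M (f q) := by
      by_cases hf : f = 1
      · simp [hf, regChar_one]
      · obtain ⟨q, hq⟩ := Function.ne_iff.1 hf
        rw [regChar_ne hf, Finset.prod_eq_zero (f := fun q => regChar M (f q)) (Finset.mem_univ q)
          (regChar_ne hq)]
    simp [this, regChar_eq_sum, Fintype.prod_sum, piIrr, Finset.prod_mul_distrib]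
  rw [← classInner_regChar_right φ, h2, classInner_sum_right] at h
  simp [classInner_smul_right, h1] at h

theorem isM_wreath [Fintype (M ≀ᵣ Q)] (hM : IsM M) : IsM (M ≀ᵣ Q) := by
  classical
  intro χ hχ
  choose H lam hl using fun θ : IrrCharacter M => hM θ θ.2
  have hB := isCharacter_comp (wrBase M Q) (irr_isCharacter hχ)
  obtain ⟨θ, hθ⟩ := exists_piIrr (φ := fun f => χ (wrBase M Q f))
    (by rw [map_one]; exact irr_one_ne_zero hχ)
  let T : Subgroup Q :=
    { carrier := {t | ∀ q, θ (t * q) = θ q}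
      mul_mem' := fun {a b} ha hb q => by rw [mul_assoc, ha, hb]
      one_mem' := fun q => by rw [one_mul]
      inv_mem' := fun {a} ha q => by rw [← ha, mul_inv_cancel_left] }
  have h1 : ∀ t, classInner (fun f => χ (wrBase M Q f)) (piIrr fun q => θ (t * q)).1 ≠ 0 :=
      fun t => by
    rw [← classInner_comp_equiv (Equiv.arrowCongr (Equiv.mulLeft t) (Equiv.refl M))] at hθ
    convert hθ using 3 with f f
    · rw [← irr_isClassFunction hχ _ (RegularWreathProduct.inl t)]
      congr 1
      ext <;> simp [wrBase]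
    · exact Fintype.prod_equiv (Equiv.mulLeft t) _ _ fun q => by simp
  have h2 := sum_le_of_inner_ne_zero hB (fun c : Q ⧸ T => piIrr fun q => θ (c.out * q))
    (fun a b h => by
      rw [← a.out_eq', ← b.out_eq']
      refine QuotientGroup.eq.2 fun q => ?_
      rw [mul_comm _ b.out, mul_assoc, ← congrFun (piIrr_injective h), mul_inv_cancel_left])
    fun c => h1 _
  have h3 : ∀ t, (piIrr fun q => θ (t * q)).1 1 = (∏ q, (H (θ q)).index : ℕ) := fun t => by
    rw [Nat.cast_prod]
    refine Fintype.prod_equiv (Equiv.mulLeft t) _ _ fun q => ?_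
    nth_rw 1 [hl (θ (t * q))]
    simp [H7.indFun_one]
  simp only [h3, Complex.natCast_re, Finset.sum_const, Finset.card_univ, nsmul_eq_mul, map_one,
    ← Nat.card_eq_fintype_card, ← index_eq_card, ← Nat.cast_mul] at h2
  let L : IrrCharacter M → M → ℂˣ := fun φ m => if h : m ∈ H φ then lam φ ⟨m, h⟩ else 1
  have hL : ∀ φ (m : H φ), L φ m = lam φ m := fun φ m => dif_pos m.2
  let K : Subgroup (M ≀ᵣ Q) :=
    { carrier := {w | w.right ∈ T ∧ ∀ q, w.left q ∈ H (θ q)}
      mul_mem' := fun {a b} ha hb => ⟨mul_mem ha.1 hb.1, fun q =>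
        mul_mem (ha.2 q) (inv_mem ha.1 q ▸ hb.2 _)⟩
      one_mem' := ⟨one_mem _, fun _ => one_mem _⟩
      inv_mem' := fun {a} ha => ⟨inv_mem ha.1, fun q => inv_mem (ha.1 q ▸ ha.2 _)⟩ }
  let μ : K →* ℂˣ := MonoidHom.mk' (fun w => ∏ q, L (θ q) (w.1.left q)) fun a b => by
    rw [← Equiv.prod_comp (Equiv.mulLeft a.1.right⁻¹) fun q => L (θ q) (b.1.left q),
      ← Finset.prod_mul_distrib]
    refine Finset.prod_congr rfl fun q _ => ?_
    have h4 : b.1.left (a.1.right⁻¹ * q) ∈ H (θ q) := inv_mem a.2.1 q ▸ b.2.2 _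
    rw [Equiv.coe_mulLeft, inv_mem a.2.1 q, hL _ ⟨_, a.2.2 q⟩, hL _ ⟨_, h4⟩, ← map_mul, ← hL]
    rfl
  let κ : (∀ q, H (θ q)) →* (Q → M) := MonoidHom.pi fun q => (H (θ q)).subtype.comp
    (Pi.evalMonoidHom _ q)
  have h4 : classInner (fun f => χ (wrBase M Q (κ f))) (fun f => ∏ q, (lam (θ q) (f q) : ℂ)) ≠ 0 := by
    obtain ⟨n, hn⟩ := char_inner_nat (isCharacter_comp κ
      (isCharacter_sub_of_inner_ne_zero hB (piIrr θ).2 hθ)) (ψ := fun f => ∏ q, (lam (θ q) (f q) : ℂ))
      (by simpa using isCharacter_hom (∏ q, (lam (θ q)).comp (Pi.evalMonoidHom _ q)))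
    have h4 := classInner_pi (fun q (h : H (θ q)) => (θ q).1 h) fun q h => (lam (θ q) h : ℂ)
    rw [Finset.prod_eq_one fun q _ => by
      rw [← H7.classInner_indFun_right _ _ (irr_isClassFunction (θ q).2), ← hl,
        irr_inner_self (θ q).2]] at h4
    rw [((classInner_sub_left _ _ _).symm.trans hn |> sub_eq_iff_eq_add.1).trans
      (congrArg _ h4)]
    exact_mod_cast n.succ_ne_zero
  obtain ⟨β, hβ⟩ : ∃ β : IrrCharacter Q, classInner (fun w : K => χ w)
      (fun w => β.1 w.1.right * μ w) ≠ 0 := by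
    by_contra h5
    push Not at h5
    have h6 : classInner (fun w : K => χ w) (fun w => regChar Q w.1.right * μ w) = 0 := by
      rw [show (fun w : K => regChar Q w.1.right * μ w) = ∑ β : IrrCharacter Q,
        β.1 1 • fun w : K => β.1 w.1.right * μ w from funext fun w => by
          simp [regChar_eq_sum, Finset.sum_mul, mul_assoc], classInner_sum_right]
      simp only [classInner_smul_right, h5, mul_zero, Finset.sum_const_zero]
    rw [classInner_def, mul_eq_zero, inv_eq_zero, ← Fintype.sum_of_injective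
      (fun f : ∀ q, H (θ q) => (⟨wrBase M Q (κ f), one_mem T, fun q => (f q).2⟩ : K))
      (fun f g h => funext fun q => Subtype.ext
        (congrFun (congrArg (fun w : K => w.1.left) h) q))
      (fun f => Nat.card Q * (χ (wrBase M Q (κ f)) * conj (∏ q, (lam (θ q) (f q) : ℂ)))) _
      (fun w hw => by
        rw [regChar_ne fun h => hw ⟨fun q => ⟨_, w.2.2 q⟩, Subtype.ext
          (RegularWreathProduct.ext rfl h.symm)⟩]
        simp)
      (fun f => by
        change _ = _ * conj (regChar Q 1 * (∏ q, L (θ q) (f q) : ℂˣ))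
        simp only [regChar_one, hL, map_mul, Units.coe_prod, map_natCast]
        ring), ← Finset.mul_sum, ← card_mul_classInner] at h6
    simp [h4, Finset.prod_eq_zero_iff] at h6
  obtain ⟨β, hβ'⟩ := irr_eq_hom_of_comm mul_comm β.2
  refine ⟨K, (β.comp RegularWreathProduct.rightHom).comp K.subtype * μ,
    eq_indFun_of_le hχ K _ (by simpa [hβ'] using hβ) (le_trans (Nat.cast_le.2 ?_) h2)⟩
  have h5 : (∏ q, Nat.card (H (θ q))) * Nat.card T ≤ Nat.card K := by
    rw [← Nat.card_pi, ← Nat.card_prod]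
    exact Nat.card_le_card_of_injective (fun x => ⟨⟨κ x.1, x.2⟩, x.2.2, fun q => (x.1 q).2⟩)
      fun x y h => Prod.ext (funext fun q => Subtype.ext
        (congrFun (congrArg (fun w : K => w.1.left) h) q))
        (Subtype.ext (congrArg (fun w : K => w.1.right) h))
  refine Nat.le_of_mul_le_mul_left ((Nat.mul_le_mul_right _ h5).trans_eq ?_)
    (Nat.mul_pos (Finset.prod_pos fun _ _ => Nat.card_pos) Nat.card_pos)
  rw [K.card_mul_index, RegularWreathProduct.card, mul_comm T.index, mul_mul_mul_comm,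
    T.card_mul_index, ← Finset.prod_mul_distrib]
  simp only [card_mul_index, Finset.prod_const, Finset.card_univ, ← Nat.card_eq_fintype_card]

end wreath

theorem exists_isM (n : ℕ) : ∀ (G : Type u) [Group G] [Finite G], Nat.card G = n →
    Group.IsSolvable G → ∃ (M : Type u) (_ : Group M) (_ : Fintype M), IsM M ∧
      ∃ f : G →* M, Function.Injective f := by
  induction n using Nat.strong_induction_on with
  | _ n ih =>
  intro G _ _ hn hG
  rcases subsingleton_or_nontrivial G with h | h
  · let _ := Fintype.ofFinite G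
    exact ⟨G, inferInstance, inferInstance, fun _ hχ => H8.exists_ind_hom_of_nilpotent hχ,
      MonoidHom.id G, fun _ _ => id⟩
  obtain ⟨M, _, _, hM, f, hf⟩ := ih _ (hn ▸ H1.card_lt_of_ne_top
    (Group.IsSolvable.commutator_lt_top_of_nontrivial G).ne) (commutator G) rfl inferInstance
  classical
  let _ := Fintype.ofFinite (Abelianization G)
  let _ := Fintype.ofFinite (M ≀ᵣ Abelianization G)
  obtain ⟨s, hs⟩ : ∃ s : Abelianization G → G, ∀ x, Abelianization.of (s x) = x :=
    ⟨_, Function.surjInv_eq (QuotientGroup.mk'_surjective _)⟩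
  have h1 : ∀ g x, (s x)⁻¹ * g * s ((Abelianization.of g)⁻¹ * x) ∈ commutator G := fun g x => by
    rw [← Abelianization.ker_of, MonoidHom.mem_ker, map_mul, map_mul, map_inv, hs, hs]
    group
  refine ⟨M ≀ᵣ Abelianization G, inferInstance, inferInstance, isM_wreath hM,
    MonoidHom.mk' (fun g => ⟨fun x => f ⟨_, h1 g x⟩, Abelianization.of g⟩) fun a b => ?_,
    (injective_iff_map_eq_one _).2 fun g h => ?_⟩
  · refine RegularWreathProduct.ext (funext fun x => ?_) (map_mul _ _ _)
    refine (congrArg f (Subtype.ext ?_)).trans (map_mul f _ _)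
    simp [mul_assoc]
  · have h2 : Abelianization.of g = 1 := congrArg RegularWreathProduct.right h
    have h3 := congrArg Subtype.val ((injective_iff_map_eq_one f).1 hf _
      (congrFun (congrArg RegularWreathProduct.left h) 1))
    simpa [h2, mul_assoc, inv_mul_eq_one] using h3

end H82
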