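import Mathlib
import Cfsg.Agent.Lib.FGS83.Syl
import Cfsg.Agent.Lib.SL2Elt.Sylow

/-!
# Elements lying in a unique Sylow subgroup
-/

set_option autoImplicit false

namespace H82

open Subgroup
open scoped MatrixGroups

section general

variable {G : Type*} [Group G] {p : ℕ}

/-- `P` is the only Sylow subgroup containing `x` -/
def Uq (x : G) (P : Sylow p G) : Prop := x ∈ P ∧ ∀ Q : Sylow p G, x ∈ Q → Q = P

theorem Uq.conj {x : G} {P : Sylow p G} (h : Uq x P) (g : G) : Uq (g * x * g⁻¹) (g • P) :=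
  ⟨H83.mem_sylow_smul_iff.2 (by simpa [mul_assoc] using h.1), fun Q hQ => by
    rw [← h.2 (g⁻¹ • Q) (H83.mem_sylow_smul_iff.2 (by simpa using hQ)), smul_inv_smul]⟩

theorem Uq.mem_normalizer {x g : G} {P : Sylow p G} (h : Uq x P) (hg : g⁻¹ * x * g ∈ P) :
    g ∈ normalizer (P : Set G) :=
  Sylow.smul_eq_iff_mem_normalizer.1 (h.2 _ (H83.mem_sylow_smul_iff.2 hg))

theorem sylow_eq_of_le_normalizer {P Q : Sylow p G} (h : (Q : Subgroup G) ≤ normalizer (P : Set G)) :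
    Q = P := by
  have := Q.isPGroup'.inf_normalizer_sylow P
  rw [inf_of_le_left h, eq_comm, inf_eq_left] at this
  exact Sylow.ext (Q.is_maximal' P.isPGroup' this).symm

variable [Finite G] [Fact p.Prime]

theorem redundant_iff : (∃ Q : Sylow p G, ∀ x : G, (∃ k : ℕ, orderOf x = p ^ k) →
    ∃ P : Sylow p G, P ≠ Q ∧ x ∈ P) ↔ ¬ ∃ (x : G) (P : Sylow p G), Uq x P := by
  constructor
  · rintro ⟨Q, hQ⟩ ⟨x, P, h⟩
    obtain ⟨g, rfl⟩ := MulAction.exists_smul_eq G P Q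
    obtain ⟨k, hk⟩ := IsPGroup.iff_orderOf.1 (g • P).isPGroup' ⟨_, (h.conj g).1⟩
    obtain ⟨R, h1, h2⟩ := hQ _ ⟨k, (orderOf_mk _ _).symm.trans hk⟩
    exact h1 ((h.conj g).2 R h2)
  · refine fun h => ⟨Classical.arbitrary _, fun x hx => ?_⟩
    obtain ⟨P, hP⟩ := H83.exists_sylow_mem hx
    by_contra h1
    push Not at h1
    have h2 : ∀ Q : Sylow p G, x ∈ Q → Q = Classical.arbitrary _ := fun Q hQ =>
      by_contra fun h2 => h1 Q h2 hQ
    exact h ⟨x, P, hP, fun Q hQ => (h2 Q hQ).trans (h2 P hP).symm⟩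

theorem uq_map_iff {G' : Type*} [Group G'] {f : G →* G'} (hf : Function.Surjective f)
    (hk : f.ker ≤ center G) :
    (∃ (x : G') (P : Sylow p G'), Uq x P) ↔ ∃ (x : G) (P : Sylow p G), Uq x P := by
  have h1 : ∀ (x : G) (P Q : Sylow p G), x ∈ P → f x ∈ Q.mapSurjective hf → x ∈ Q := by
    rintro x P Q hx ⟨y, hy, e⟩
    have h2 : y⁻¹ * x ∈ normalizer (Q : Set G) := center_le_normalizer _ (hk (by
      rw [MonoidHom.mem_ker, map_mul, map_inv, e, inv_mul_cancel]))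
    have h3 := mul_mem (le_normalizer hy) h2
    rw [mul_inv_cancel_left] at h3
    exact ((P.isPGroup'.inf_normalizer_sylow Q).le ⟨hx, h3⟩).2
  constructor
  · rintro ⟨x, P, h⟩
    obtain ⟨P, rfl⟩ := Sylow.mapSurjective_surjective hf p P
    obtain ⟨x, hx, rfl⟩ := h.1
    exact ⟨x, P, hx, fun Q hQ => Sylow.ext (Q.is_maximal' P.isPGroup' fun y hy =>
      h1 y Q P hy (h.2 (Q.mapSurjective hf) ⟨x, hQ, rfl⟩ ▸ ⟨y, hy, rfl⟩)).symm⟩
  · rintro ⟨x, P, h⟩
    refine ⟨f x, P.mapSurjective hf, ⟨x, h.1, rfl⟩, fun Q hQ => ?_⟩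
    obtain ⟨Q, rfl⟩ := Sylow.mapSurjective_surjective hf p Q
    rw [h.2 Q (h1 x P Q h.1 hQ)]

end general

open H64.SL2

variable {F : Type*} [Field F] [Fintype F]

theorem exists_uq_SL2 {p : ℕ} [hp : Fact p.Prime] (h : p ≠ 2 ∨ (2 : F) = 0) :
    ∃ (x : SL(2, F)) (P : Sylow p SL(2, F)), Uq x P := by
  have h1 : ∀ P : Sylow p SL(2, F), ∀ z ∈ P, z ∈ center SL(2, F) → z = 1 := fun P z hz hc => by
    rcases mem_center_iff'.1 hc with rfl | rfl
    · rfl
    rcases h with h | h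
    · obtain ⟨k, hk⟩ := P.isPGroup' ⟨_, hz⟩
      simpa [(hp.out.odd_of_ne_two h).pow.neg_one_pow] using congrArg Subtype.val hk
    · exact neg_eq_self_of_two_eq_zero h 1
  have h2 : ∀ P : Sylow p SL(2, F), ∀ x ∈ P, ∀ y ∈ P, x * y = y * x := fun P x hx y hy => by
    rcases subsingleton_or_nontrivial P with h2 | h2
    · exact congrArg Subtype.val (Subsingleton.elim (α := P) (⟨x, hx⟩ * ⟨y, hy⟩) (⟨y, hy⟩ * ⟨x, hx⟩))
    have : Nontrivial (center (P : Subgroup SL(2, F))) := P.isPGroup'.center_nontrivial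
    obtain ⟨⟨z, hz⟩, h3⟩ := exists_ne (1 : center (P : Subgroup SL(2, F)))
    exact commute_of_mem_centralizer (g := z)
      (fun hc => h3 (Subtype.ext (Subtype.ext (h1 P z z.2 hc))))
      (mem_centralizer_singleton_iff.2 (congrArg Subtype.val (mem_center_iff.1 hz ⟨x, hx⟩)))
      (mem_centralizer_singleton_iff.2 (congrArg Subtype.val (mem_center_iff.1 hz ⟨y, hy⟩)))
  obtain ⟨P⟩ : Nonempty (Sylow p SL(2, F)) := inferInstance
  by_cases h3 : (P : Subgroup SL(2, F)) ≤ center _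
  · exact ⟨1, P, one_mem _, fun Q _ => sylow_eq_of_le_normalizer fun y _ =>
      centralizer_le_normalizer _ fun z hz => (mem_center_iff.1 (h3 hz) y).symm⟩
  obtain ⟨x, hx, h3⟩ := SetLike.not_le_iff_exists.1 h3
  exact ⟨x, P, hx, fun Q hQ => sylow_eq_of_le_normalizer fun y hy =>
    centralizer_le_normalizer _ fun z hz => commute_of_mem_centralizer h3
      (mem_centralizer_singleton_iff.2 (h2 P z hz x hx))
      (mem_centralizer_singleton_iff.2 (h2 Q y hy x hQ))⟩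

theorem exists_uq_iff_torus (h2 : (2 : F) ≠ 0) : ∃ g : SL(2, F), tr g = 0 ∧
    ((∃ (x : SL(2, F)) (P : Sylow 2 SL(2, F)), Uq x P) ↔
      IsPGroup 2 (centralizer ({g} : Set SL(2, F)))) := by
  obtain ⟨S⟩ : Nonempty (Sylow 2 SL(2, F)) := inferInstance
  obtain ⟨g, hg, w, hw, h0, h4, hwg, hw', hS, h5, -⟩ := exists_sylow_two_data h2 S
  have hz := not_mem_center_of_tr h4
  refine ⟨g, h0, ?_, fun h => ?_⟩
  · rintro ⟨x, P, h⟩
    have key : ∀ x ∈ centralizer {g}, Uq x S → IsPGroup 2 (centralizer ({g} : Set SL(2, F))) :=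
      fun x hx h t => by
        have h6 := h.mem_normalizer (g := t.1) (by
          rw [mul_assoc, commute_of_mem_centralizer hz hx t.2, inv_mul_cancel_left]; exact h.1)
        have h7 := mul_mem ((mem_normalizer_iff.1 h6 w).1 hw) (inv_mem hw)
        rw [mul_assoc, mul_assoc, ← mul_assoc w, inverts_of_inverts hz hwg (inv_mem t.2),
          inv_inv] at h7
        obtain ⟨k, hk⟩ := S.isPGroup' ⟨_, h7⟩
        exact ⟨k + 1, Subtype.ext (by
          simpa [pow_succ', pow_mul, pow_two] using congrArg Subtype.val hk)⟩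
    obtain ⟨c, rfl⟩ := MulAction.exists_smul_eq SL(2, F) S P
    have h6 := h.conj c⁻¹
    rw [inv_smul_smul] at h6
    by_cases h7 : c⁻¹ * x * c⁻¹⁻¹ ∈ centralizer {g}
    · exact key _ h7 h6
    obtain ⟨d, hd⟩ := isConj_iff.1 (isConj_of_tr_eq h4 (h0.trans (tr_eq_zero_of_inverts h4
      (inverts_of_mem_normalizer h4 (hS h6.1) h7)).symm)).symm
    have h8 := h6.conj d
    rw [hd] at h8
    exact key g (mem_centralizer_singleton_iff.2 rfl) (h8.2 S hg ▸ h8)
  · obtain ⟨⟨x, hx⟩, h6⟩ := (isCyclic_centralizer h4).exists_generator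
    obtain ⟨k, hk⟩ := IsPGroup.iff_card.1 h
    have h7 := card_normalizer_centralizer h4
    have h8 := S.is_maximal' (IsPGroup.of_card (n := k + 1) (by rw [h7, hk, pow_succ'])) hS
    have h9 : ∀ Q : Sylow 2 SL(2, F), x ∈ Q → centralizer {g} ≤ (Q : Subgroup SL(2, F)) :=
      fun Q hQ y hy => by
        obtain ⟨n, hn⟩ := h6 ⟨y, hy⟩
        exact (show x ^ n = y from congrArg Subtype.val hn) ▸ zpow_mem hQ n
    refine ⟨x, S, h8.le (le_normalizer hx), fun Q hQ => Sylow.ext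
      (Q.is_maximal' S.isPGroup' (h8 ▸ (normal_subgroupOf_iff_le_normalizer (h9 Q hQ)).1
        (normal_of_index_eq_two ?_))).symm⟩
    have := ((centralizer {g}).subgroupOf Q).card_mul_index
    rw [Nat.card_congr (subgroupOfEquivOfLe (h9 Q hQ)).toEquiv, Nat.card_congr (Q.equiv S).toEquiv,
      ← h8, h7, mul_comm] at this
    exact Nat.eq_of_mul_eq_mul_right Nat.card_pos this

theorem redundant_SL2 (p : ℕ) [Fact p.Prime] :
    (¬ ∃ (x : SL(2, F)) (P : Sylow p SL(2, F)), Uq x P) ↔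
      (p = 2 ∧ (¬ ∃ k : ℕ, Fintype.card F + 1 = 2 ^ k) ∧ (¬ ∃ k : ℕ, Fintype.card F = 2 ^ k) ∧
        ¬ ∃ k : ℕ, Fintype.card F = 2 ^ k + 1) := by
  by_cases h : p ≠ 2 ∨ (2 : F) = 0
  · refine iff_of_false (not_not.2 (exists_uq_SL2 h)) fun h1 => ?_
    have : CharP F 2 := CharTwo.of_one_ne_zero_of_two_eq_zero one_ne_zero
      (h.resolve_left (not_not.2 h1.1))
    obtain ⟨n, -, hn⟩ := FiniteField.card F 2
    exact h1.2.2.1 ⟨n, hn⟩
  push Not at h
  obtain ⟨rfl, h2⟩ := h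
  obtain ⟨g, h0, h⟩ := exists_uq_iff_torus h2
  have h4 : tr g ^ 2 ≠ 4 := by
    rw [h0, zero_pow two_ne_zero, show (4 : F) = 2 * 2 by norm_num]
    exact (mul_ne_zero h2 h2).symm
  have h5 : 4 ∣ Nat.card (centralizer ({g} : Set SL(2, F))) := by
    have : Fact (Nat.Prime 2) := ⟨Nat.prime_two⟩
    rw [show 4 = orderOf g from (orderOf_eq_prime_pow (p := 2) (n := 1)
      (by rw [pow_one, pow_two, mul_self_eq_neg_one_of_tr h0]; exact neg_one_ne_one h2)
      (by rw [show 2 ^ (1 + 1) = 2 * 2 from rfl, pow_mul, pow_two g, mul_self_eq_neg_one_of_tr h0]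
          simp)).symm]
    exact orderOf_dvd_natCard _ (mem_centralizer_singleton_iff.2 rfl)
  have h6 := odd_card_of_two_ne_zero h2
  have h7 := Fintype.one_lt_card (α := F)
  have h8 : ∀ k, 2 ^ k = 1 ∨ 2 ^ k = 2 ∨ 4 ∣ 2 ^ k := fun k => by
    rcases k with _ | _ | k
    · simp
    · simp
    · exact .inr (.inr ⟨2 ^ k, by ring⟩)
  rw [h, IsPGroup.iff_card]
  by_cases hs : Split g
  · rw [card_centralizer_of_split h4 hs, Nat.card_eq_fintype_card] at h5 ⊢
    refine ⟨fun h => ⟨rfl, fun ⟨k, hk⟩ => ?_, fun ⟨k, hk⟩ => ?_, fun ⟨k, hk⟩ => h ⟨k, by omega⟩⟩,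
      fun h ⟨k, hk⟩ => h.2.2.2 ⟨k, by omega⟩⟩ <;> have := h8 k <;> omega
  · rw [card_centralizer_of_not_split hs, Nat.card_eq_fintype_card] at h5 ⊢
    refine ⟨fun h => ⟨rfl, h, fun ⟨k, hk⟩ => ?_, fun ⟨k, hk⟩ => h ⟨2, ?_⟩⟩, fun h => h.2.1⟩ <;>
      have := h8 k <;> omega

end H82
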