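import Mathlib
import Cfsg.Agent.Lib.Misc82.Redund
import Cfsg.Agent.Lib.Syl2.GLWr
import Cfsg.Agent.Lib.Syl2.PronMob

/-!
# A redundant Sylow subgroup of `GL_p(q)`
-/

set_option autoImplicit false

namespace H82

open Subgroup Matrix H61
open Equiv (Perm)

variable {F : Type*} [Field F] {ι : Type*} [Fintype ι] [DecidableEq ι]

/-- the monomial group -/
def monWr (ι F : Type*) [Field F] [Fintype ι] [DecidableEq ι] : Wr (GL ι F) Fˣ Unit ι where
  Φ := ((diagonalRingHom ι F).toMonoidHom.comp ((MonoidHom.compLeft (Units.coeHom F) ι).comp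
    (MonoidHom.fst _ _))).toHomUnits
  τ := (permMatrixHom (R := F)).toHomUnits
  conj σ f c := gl_ext fun v => funext fun x => by
    change ((σ⁻¹.permMatrix F * diagonal fun i => (f i : F)) *ᵥ v) x =
      (((diagonal fun i => (f (σ⁻¹ i) : F)) * σ⁻¹.permMatrix F) *ᵥ v) x
    rw [← mulVec_mulVec, ← mulVec_mulVec, permMatrix_mulVec, permMatrix_mulVec]
    simp [mulVec_diagonal]
  inj x σ h := by
    have h' : ∀ (v : ι → F) i, (x.1 i : F) * v i = v (σ⁻¹ i) := fun v i => by
      have := congrArg (fun g : GL ι F => (g.val *ᵥ v) i) h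
      exact (mulVec_diagonal _ v i).symm.trans (this.trans (congrFun (permMatrix_mulVec _) i))
    refine ⟨Prod.ext (funext fun i => Units.ext (by simpa using h' 1 i)) rfl, inv_eq_one.1 ?_⟩
    ext i
    by_contra hi
    have := h' (Pi.single (σ⁻¹ i) 1) i
    rw [Pi.single_eq_of_ne (Ne.symm hi : i ≠ σ⁻¹ i), Pi.single_eq_same, mul_zero] at this
    exact zero_ne_one this

theorem monWr_mulVec (f : ι → Fˣ) (c : Unit) (σ : Perm ι) (v : ι → F) (i : ι) :
    (((monWr ι F).Φ (f, c) * (monWr ι F).τ σ).val *ᵥ v) i = f i * v (σ⁻¹ i) := by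
  change (((diagonal fun i => (f i : F)) * σ⁻¹.permMatrix F) *ᵥ v) i = _
  rw [← mulVec_mulVec, permMatrix_mulVec, mulVec_diagonal]
  rfl

theorem col_of_conj_mon {y : GL ι F} {i : ι} {z : Fˣ} (hz : z ≠ 1) {f : ι → Fˣ} {σ : Perm ι}
    (hσ : Odd (orderOf σ))
    (h : (monWr ι F).Φ (f, ()) * (monWr ι F).τ σ = y * (monWr ι F).φ i z * y⁻¹) :
    ∃ j, ∀ k ≠ j, y.val k i = 0 := by
  have h1 : ∀ a k, (f k : F) * (Pi.single a 1 : ι → F) (σ⁻¹ k) - (Pi.single a 1 : ι → F) k =
      ((z - 1) * (y⁻¹).val i a) * y.val k i := fun a k => by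
    have h2 : ((monWr ι F).φ i z).val = 1 + single i i (z - 1 : F) := by
      ext a b
      change diagonal (fun j => ((Pi.mulSingle i z : ι → Fˣ) j : F)) a b = _
      by_cases hab : a = b
      · subst hab
        by_cases hi : a = i
        · subst hi; simp
        · simp [hi, Ne.symm hi]
      · rw [diagonal_apply_ne _ hab, Matrix.add_apply, one_apply_ne hab,
          single_apply_of_ne _ _ _ _ _ fun h => hab (h.1.symm.trans h.2), add_zero]
    rw [← monWr_mulVec f () σ, h, Units.val_mul, Units.val_mul, h2, mul_add, add_mul, mul_one,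
      Units.mul_inv, add_mulVec, one_mulVec, Pi.add_apply, add_sub_cancel_left, mulVec_single_one,
      col_apply, mul_assoc, mul_apply, Finset.sum_eq_single i (fun b _ hb => by simp [hb])
        (by simp), single_mul_apply_same, mul_comm]
  have h2 : ∀ a, σ⁻¹ a ≠ a → y.val a i ≠ 0 ∧ (z - 1) * (y⁻¹).val i a ≠ 0 := fun a ha => by
    have := h1 a a
    rw [Pi.single_eq_of_ne ha, Pi.single_eq_same] at this
    constructor <;> intro h3 <;> rw [h3] at this <;> simp at this
  have h3 : σ⁻¹ = 1 := by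
    ext a
    by_contra ha
    rw [Perm.one_apply] at ha
    have h3 : σ⁻¹ (σ⁻¹ a) ≠ a := fun h3 => ha (by
      obtain ⟨m, hm⟩ := hσ
      have h4 : ∀ n, (σ⁻¹ ^ (2 * n)) a = a := fun n => by
        rw [pow_mul]; exact Perm.pow_apply_eq_self_of_apply_eq_self h3 n
      have := congrArg (· a) (pow_orderOf_eq_one σ⁻¹)
      simpa only [orderOf_inv, hm, pow_succ', Perm.mul_apply, h4, Perm.one_apply] using this)
    have := h1 a (σ⁻¹ a)
    rw [Pi.single_eq_of_ne h3, Pi.single_eq_of_ne ha, mul_zero, sub_zero] at this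
    exact mul_ne_zero (h2 a ha).2 (h2 _ fun h => ha (σ⁻¹.injective h)).1 this.symm
  obtain ⟨a, ha⟩ : ∃ a, (y⁻¹).val i a ≠ 0 := by
    by_contra h4
    push Not at h4
    have := congrFun (congrFun y.inv_mul i) i
    rw [mul_apply, Finset.sum_eq_zero fun j _ => by rw [h4, zero_mul]] at this
    simp at this
  refine ⟨a, fun k hk => ?_⟩
  have := h1 a k
  rw [h3, Perm.one_apply, Pi.single_eq_of_ne hk, mul_zero, sub_zero] at this
  exact (mul_eq_zero.1 this.symm).resolve_left
    (mul_ne_zero (sub_ne_zero.2 fun h => hz (Units.ext h)) ha)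

theorem vp_card_GL [Finite F] {p : ℕ} [hp : Fact p.Prime] (h2 : p ≠ 2) (h1 : p ∣ Nat.card F - 1)
    (n : ℕ) : padicValNat p (Nat.card (GL (Fin n) F)) =
      padicValNat p (Nat.card F - 1) * n + padicValNat p n.factorial := by
  have h3 : 1 < Nat.card F := Finite.one_lt_card
  have h4 : ¬ p ∣ Nat.card F := fun h => hp.out.not_dvd_one
    ((Nat.dvd_sub_iff_right h3.le h).1 h1)
  rw [H10.card_GL_fin', padicValNat.mul (by positivity) (Finset.prod_ne_zero_iff.2 fun _ _ =>
    pow_sub_one_ne_zero h3 (by omega)), padicValNat.eq_zero_of_not_dvd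
    fun h => h4 (hp.out.dvd_of_dvd_pow h), zero_add]
  induction n with
  | zero => simp
  | succ n ih =>
    have := padicValNat.pow_sub_pow (hp.out.odd_of_ne_two h2) h3 h1 h4 (n := n + 1) (by omega)
    rw [one_pow] at this
    rw [Finset.prod_range_succ, padicValNat.mul (Finset.prod_ne_zero_iff.2 fun _ _ =>
      pow_sub_one_ne_zero h3 (by omega)) (pow_sub_one_ne_zero h3 (by omega)), ih, this,
      Nat.factorial_succ, padicValNat.mul (by omega) (Nat.factorial_ne_zero n)]
    ring

theorem not_uq_GL [Finite F] {p : ℕ} [hp : Fact p.Prime] (h2 : p ≠ 2) (h1 : p ∣ Nat.card F - 1)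
    (h1' : ¬ p ^ 2 ∣ Nat.card F - 1) : ¬ ∃ (x : GL (Fin p) F) (P : Sylow p (GL (Fin p) F)), Uq x P := by
  have h3 : 1 < Nat.card F := Finite.one_lt_card
  obtain ⟨n, rfl⟩ : ∃ n, p = n + 2 := ⟨p - 2, by have := hp.out.two_le; omega⟩
  obtain ⟨z, hz⟩ := exists_prime_orderOf_dvd_card' (G := Fˣ) (n + 2) (by rwa [Nat.card_units])
  have hc : orderOf (finRotate (n + 2)) = n + 2 := by
    rw [isCycle_finRotate.orderOf, support_finRotate]; simp
  have hz1 : z ≠ 1 := fun h => hp.out.one_lt.ne (by rw [← hz, h, orderOf_one])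
  have h4 : padicValNat (n + 2) (Nat.card F - 1) ≤ 1 := by
    by_contra h4
    exact h1' ((padicValNat_dvd_iff_le (by omega)).2 (by omega))
  obtain ⟨S, hS⟩ := ((monWr (Fin (n + 2)) F).sylIn (p := n + 2) (D' := zpowers z) (C' := ⊥)
    (T := zpowers (finRotate (n + 2))) (IsPGroup.of_card (n := 1) (by simp [hz])) IsPGroup.of_bot
    (IsPGroup.of_card (n := 1) (by rw [Nat.card_zpowers, hc, pow_one])) (by
      rw [vp_card_GL h2 h1, Nat.card_zpowers, Nat.card_zpowers, hz, hc, card_bot, mul_one,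
        padicValNat_factorial_div, Nat.div_self hp.out.pos, Nat.card_fin, ← pow_succ]
      refine Nat.pow_le_pow_right hp.out.pos ?_
      simpa using Nat.mul_le_mul_right (n + 2) h4)).exists_sylow_top
  have hT : ∀ σ ∈ zpowers (finRotate (n + 2)), orderOf σ ∣ n + 2 := fun σ hσ =>
    (orderOf_dvd_of_mem_zpowers hσ).trans hc.dvd
  have ho := hp.out.odd_of_ne_two h2
  rintro ⟨x, P, h⟩
  obtain ⟨g, rfl⟩ := MulAction.exists_smul_eq (GL (Fin (n + 2)) F) S P
  replace h := h.conj g⁻¹
  rw [inv_smul_smul] at h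
  generalize g⁻¹ * x * g⁻¹⁻¹ = x at h
  have key : ∀ (y : GL (Fin (n + 2)) F) i, y⁻¹ * x * y ∈ S → ∃ j, ∀ k ≠ j, y.val k i = 0 :=
    fun y i hy => by
      obtain ⟨f, c, σ, -, -, hσ, e⟩ := (Wr.mem_sub _).1 (hS.le ((mem_normalizer_iff.1
        (h.mem_normalizer hy) _).1 (hS.ge (Wr.φ_mem _ i (mem_zpowers z)))))
      exact col_of_conj_mon hz1 (ho.of_dvd_nat (hT σ hσ)) e
  have key' : ∀ (y : Matrix _ _ F) (hy : IsUnit y) (i a b), x.val * y = y * x.val → a ≠ b →
      y a i ≠ 0 → y b i = 0 := fun y hy i a b h5 hab ha => by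
    obtain ⟨y, rfl⟩ := hy
    obtain ⟨j, hj⟩ := key y i (by
      rw [mul_assoc, show x * y = y * x from Units.ext h5, inv_mul_cancel_left]; exact h.1)
    exact hj b fun hb => ha (hj a (hb ▸ hab))
  obtain ⟨f, c, σ, hf, -, hσ, e⟩ := (Wr.mem_sub _).1 (hS.le h.1)
  have hx : ∀ v i, (x.val *ᵥ v) i = f i * v (σ⁻¹ i) := e ▸ monWr_mulVec f c σ
  by_cases h5 : σ = 1
  · subst h5
    have h5 : x.val = diagonal fun i => (f i : F) := toLin'.injective (LinearMap.ext fun v =>
      funext fun i => by simpa [mulVec_diagonal] using hx v i)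
    by_cases h6 : Function.Injective f
    · let y := GeneralLinearGroup.mkOfDetNeZero _
        (det_vandermonde_ne_zero_iff.2 (Units.val_injective.comp h6))
      obtain ⟨j, hj⟩ := key y 0 (by
        have : x * y = y * ((monWr _ F).Φ (1, ()) * (monWr _ F).τ (finRotate (n + 2))) :=
          gl_ext fun v => funext fun i => by
            rw [Prod.mk_one_one, map_one, one_mul, Units.val_mul, Units.val_mul, ← mulVec_mulVec,
              ← mulVec_mulVec, hx]
            change (f i : F) * ∑ k : Fin (n + 2), (f i : F) ^ (k : ℕ) * v k =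
              ∑ k : Fin (n + 2), (f i : F) ^ (k : ℕ) * ((finRotate _)⁻¹.permMatrix F *ᵥ v) k
            rw [permMatrix_mulVec, Finset.mul_sum]
            refine Eq.trans ?_ (Equiv.sum_comp (finRotate (n + 2)) _)
            refine Finset.sum_congr rfl fun k _ => ?_
            have : (f i : F) ^ (n + 2) = 1 := by
              rw [← Units.val_pow_eq_pow_val, orderOf_dvd_iff_pow_eq_one.1
                ((orderOf_dvd_of_mem_zpowers (hf i)).trans hz.dvd), Units.val_one]
            rw [Function.comp, Perm.coe_inv, Equiv.symm_apply_apply, finRotate_apply, Fin.val_add, Fin.val_one,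
              ← pow_eq_pow_mod _ this, pow_succ', mul_assoc]
        rw [mul_assoc, this, inv_mul_cancel_left]
        exact hS.ge ((Wr.mem_sub _).2 ⟨1, (), _, fun _ => one_mem _, one_mem _, mem_zpowers _, rfl⟩))
      obtain ⟨k, hk⟩ := exists_ne j
      simpa [y] using hj k hk
    · obtain ⟨i, j, h6, hij⟩ := Function.not_injective_iff.1 h6
      have := key' (transvection j i 1) ((isUnit_iff_isUnit_det _).2 (by
        rw [det_transvection_of_ne _ _ hij.symm]; exact isUnit_one)) i i j (by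
          rw [h5, transvection, mul_add, add_mul, mul_one, one_mul]
          congr 1
          ext a b
          simp only [diagonal_mul, mul_diagonal, single_apply]
          split_ifs with h7
          · rw [← h7.1, ← h7.2, h6, mul_comm]
          · simp) hij (by simp [transvection, hij.symm])
      simp [transvection, hij.symm] at this
  have h6 : ∀ σ ∈ zpowers (finRotate (n + 2)), σ ≠ 1 → ∀ i, σ i ≠ i := fun σ hσ h5 i => by
    have h6 := ((Nat.dvd_prime hp.out).1 (hT σ hσ)).resolve_left (by simpa using h5)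
    have h7 := (Perm.isCycle_of_prime_order' (h6 ▸ hp.out) (by simp [h6])).orderOf
    rw [h6] at h7
    rw [← Perm.mem_support, Finset.eq_univ_of_card σ.support (by simpa using h7.symm)]
    exact Finset.mem_univ i
  have h6' := h6 σ hσ h5
  have h7 : ∀ i j, x.val i j = if i = σ j then (f i : F) else 0 := fun i j => by
    simpa [Pi.single_apply, Equiv.symm_apply_eq] using hx (Pi.single j 1) i
  by_cases h8 : IsUnit (x.val - 1)
  · have := key' _ h8 0 0 (σ 0) (by noncomm_ring) (h6' 0).symm (by simp [h7, (h6' 0).symm])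
    simp [h7, one_apply_ne (h6' 0)] at this
  obtain ⟨v, hv, h9⟩ := exists_mulVec_eq_zero_iff.2 (not_not.1 fun h9 =>
    h8 ((isUnit_iff_isUnit_det _).2 (isUnit_iff_ne_zero.2 h9)))
  rw [sub_mulVec, one_mulVec, sub_eq_zero] at h9
  have hm : ((orderOf x : ℕ) : F) ≠ 0 := by
    obtain ⟨k, hk⟩ := IsPGroup.iff_orderOf.1 S.isPGroup' ⟨x, h.1⟩
    rw [orderOf_mk] at hk
    rw [hk, Nat.cast_pow]
    refine pow_ne_zero _ fun h0 => ?_
    obtain ⟨c, hc⟩ := h1
    have := Fintype.ofFinite F
    have h10 := FiniteField.cast_card_eq_zero F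
    rw [← Nat.card_eq_fintype_card, show Nat.card F = (n + 2) * c + 1 by omega, Nat.cast_add,
      Nat.cast_mul, h0] at h10
    simp at h10
  obtain ⟨E, hE⟩ : ∃ E, E = ∑ k ∈ Finset.range (orderOf x), x.val ^ k := ⟨_, rfl⟩
  have hx0 : x.val ^ orderOf x - 1 = 0 := by
    rw [← Units.val_pow_eq_pow_val, pow_orderOf_eq_one, Units.val_one, sub_self]
  have e1 : x.val * E = E := by
    have := mul_geom_sum x.val (orderOf x)
    rwa [← hE, hx0, sub_mul, one_mul, sub_eq_zero] at this
  have e2 : E * x.val = E := by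
    have := geom_sum_mul x.val (orderOf x)
    rwa [← hE, hx0, mul_sub, mul_one, sub_eq_zero] at this
  have e3 : ∀ w, x.val *ᵥ w = w → E *ᵥ w = (orderOf x : F) • w := fun w hw => by
    have : ∀ k, x.val ^ k *ᵥ w = w := fun k => by
      induction k with
      | zero => simp
      | succ k ih => rw [pow_succ, ← mulVec_mulVec, hw, ih]
    simp [hE, sum_mulVec, this, Nat.cast_smul_eq_nsmul]
  have e4 : E * E = (orderOf x : F) • E := toLin'.injective (LinearMap.ext fun w => by
    rw [toLin'_apply, toLin'_apply, ← mulVec_mulVec, e3 _ (by rw [mulVec_mulVec, e1]), smul_mulVec])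
  obtain ⟨k, i, hk⟩ : ∃ k i, E k i ≠ 0 := by
    by_contra h10
    push Not at h10
    have := e3 v h9
    rw [show E = 0 from Matrix.ext h10, zero_mulVec] at this
    exact smul_ne_zero hm hv this.symm
  have e5 : ∀ k, E k i ≠ 0 → E (σ k) i ≠ 0 := fun k hk => by
    have := hx (E.col i) (σ k)
    rw [← mulVec_single_one, mulVec_mulVec, e1, mulVec_single_one, Perm.coe_inv, Equiv.symm_apply_apply] at this
    exact this.trans_ne (mul_ne_zero (f _).ne_zero hk)
  obtain ⟨a, ha, hb, hab⟩ : ∃ a, a ≠ i ∧ σ a ≠ i ∧ E a i ≠ 0 := by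
    by_cases h10 : E i i = 0
    · exact ⟨k, fun h => hk (h ▸ h10), fun h => e5 k hk (h ▸ h10), hk⟩
    · refine ⟨σ i, h6' i, h6 (σ ^ 2) (pow_mem hσ 2) (fun h => h5 ?_) i, e5 i h10⟩
      exact eq_one_of_odd_of_two (k := 1) ho (orderOf_dvd_iff_pow_eq_one.1 (hT σ hσ)) h
  have h10 : ((z : F) - 1) / orderOf x ≠ 0 :=
    div_ne_zero (sub_ne_zero.2 fun h => hz1 (Units.ext h)) hm
  have := key' (1 + (((z : F) - 1) / orderOf x) • E) (IsUnit.of_mul_eq_one
    (1 + (((z : F)⁻¹ - 1) / orderOf x) • E) (by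
      rw [mul_add, add_mul, add_mul, mul_one, mul_one, one_mul, smul_mul_smul_comm, e4, smul_smul,
        add_assoc, ← add_smul, ← add_smul, add_eq_left]
      convert zero_smul F E
      field_simp
      ring)) i a (σ a) (by
        rw [mul_add, add_mul, mul_smul_comm, smul_mul_assoc, e1, e2, mul_one, one_mul])
      (h6' a).symm (by
        rw [Matrix.add_apply, one_apply_ne ha, zero_add, Matrix.smul_apply]
        exact mul_ne_zero h10 hab)
  rw [Matrix.add_apply, one_apply_ne hb, zero_add, Matrix.smul_apply] at this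
  exact mul_ne_zero h10 (e5 a hab) this

end H82
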